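import Groth.Agent.GLForms.Null
import Groth.Agent.GLForms.Lines

/-!
# Stable and semistable binary forms
-/

set_option autoImplicit false
set_option linter.unusedSectionVars false

universe u
open CoordGrp MvPolynomial Matrix
noncomputable section

namespace Groth.Agent.GLForms

variable {k : Type u} [Field k] {d : ℕ}

lemma binVec_ne_zero {a : Fin (d + 1) → k} (ha : a ≠ 0) : binVec d a ≠ 0 := fun h => ha (funext fun i => by
  have := congrFun h (binIdx d i)
  rwa [binVec_binIdx] at this)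

lemma dvd_of_coeff_eq_zero (j : Fin 2) (c : ℕ) (G : MvPolynomial (Fin 2) k) (h : ∀ m, m j < c → G.coeff m = 0) :
    X j ^ c ∣ G := by
  classical
  rw [G.as_sum]
  refine Finset.dvd_sum fun m hm => ?_
  have hc : c ≤ m j := not_lt.1 fun hlt => (mem_support_iff.1 hm) (h m hlt)
  refine ⟨monomial (m - Finsupp.single j c) (coeff m G), ?_⟩
  rw [X_pow_eq_monomial, monomial_mul, one_mul]
  congr 1
  rw [add_tsub_cancel_of_le]
  intro i
  by_cases hi : i = j
  · subst hi; simpa using hc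
  · simp [Finsupp.single_eq_of_ne hi]

/-- A repeated linear factor gives coordinates in which monomials have few powers of the first variable. -/
lemma exists_coords (hd : (d.factorial : k) ≠ 0) (a : FormIdx 2 d → k) {ℓ : MvPolynomial (Fin 2) k}
    (hℓ : ℓ.IsHomogeneous 1) (hℓ0 : ℓ ≠ 0) {m : ℕ} (hdvd : ℓ ^ m ∣ formPoly a) :
    ∃ g : SLn 2 k →ₐ[k] k, ∀ l : FormIdx 2 d, l.1 1 < m → move g a l = 0 := by
  classical
  let p : Fin 2 → k := fun j => coeff (Finsupp.single j 1) ℓ
  have hℓp : ℓ = lin p := by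
    ext s
    rw [coeff_lin]
    by_cases hs : s.degree = 1
    · obtain ⟨j, rfl⟩ : ∃ j, s = Finsupp.single j 1 := by
        rw [Finsupp.degree_eq_sum, Fin.sum_univ_two] at hs
        rcases Nat.eq_zero_or_pos (s 0) with h0 | h0
        · exact ⟨1, Finsupp.ext fun i => by fin_cases i <;> simp [Finsupp.single_apply] <;> omega⟩
        · exact ⟨0, Finsupp.ext fun i => by fin_cases i <;> simp [Finsupp.single_apply] <;> omega⟩
      rw [Finset.sum_eq_single j (fun b _ hb => if_neg fun e => hb (Finsupp.single_left_injective one_ne_zero e)) (by simp),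
        if_pos rfl]
    · rw [hℓ.coeff_eq_zero hs]
      exact (Finset.sum_eq_zero fun j _ => if_neg fun e => hs (by rw [← e, Finsupp.degree_single])).symm
  have hp : p ≠ 0 := fun h => hℓ0 (by rw [hℓp, h]; simp [lin])
  obtain ⟨M, hM, h0⟩ : ∃ M : Matrix (Fin 2) (Fin 2) k, M.det = 1 ∧ (p ᵥ* M) 0 = 0 := by
    by_cases h0 : p 0 = 0
    · have h1 : p 1 ≠ 0 := fun h1 => hp (funext fun i => by fin_cases i <;> assumption)
      refine ⟨!![-(p 1), 0; 0, -(p 1)⁻¹], by simp [Matrix.det_fin_two, h1], ?_⟩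
      simp [vecMul, dotProduct, Fin.sum_univ_two, h0]
    · refine ⟨!![-(p 1), -(p 0)⁻¹; p 0, 0], by simp [Matrix.det_fin_two, h0], ?_⟩
      simp [vecMul, dotProduct, Fin.sum_univ_two]; ring
  let g := SLn.pt 2 k M hM
  refine ⟨g, fun l hl => (coeff_sub_eq_zero_iff hd g a l).1 ?_⟩
  obtain ⟨Q, hQ⟩ := hdvd
  rw [mat_pt, hQ, map_mul, map_pow, hℓp, sub_lin, show lin (p ᵥ* M) = C ((p ᵥ* M) 1) * X 1 by
    rw [lin, Fin.sum_univ_two, h0]; simp, mul_pow, ← map_pow, X_pow_eq_monomial, C_mul_monomial, coeff_monomial_mul',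
    if_neg]
  intro hle
  have := hle 1
  simp at this
  omega

/-- Weights of monomials in two variables. -/
lemma wt_two (r : Fin 2 → ℤ) (hr : ∑ i, r i = 0) (m : Fin 2 →₀ ℕ) : wt r m = r 1 * ((m 1 : ℤ) - m 0) := by
  rw [Fin.sum_univ_two] at hr
  rw [wt, Fin.sum_univ_two, show r 0 = - r 1 by omega]
  ring

/-- Missing monomials in some coordinates give a repeated linear factor. -/
lemma exists_factor (g : SLn 2 k →ₐ[k] k) (a : FormIdx 2 d → k) (j : Fin 2) (c : ℕ)
    (h : ∀ l : FormIdx 2 d, l.1 j < c → move g a l = 0) :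
    ∃ ℓ : MvPolynomial (Fin 2) k, ℓ.IsHomogeneous 1 ∧ ℓ ≠ 0 ∧ ℓ ^ c ∣ formPoly a := by
  classical
  have hdvd : (X j : MvPolynomial (Fin 2) k) ^ c ∣ formPoly (move g a) := dvd_of_coeff_eq_zero j c _ fun m hm => by
    by_cases hdeg : m.degree = d
    · rw [show m = (⟨m, hdeg⟩ : FormIdx 2 d).1 from rfl, coeff_formPoly, h ⟨m, hdeg⟩ hm, mul_zero]
    · exact coeff_formPoly_eq_zero _ hdeg
  have hdet : IsUnit (mat g) := (isUnit_iff_isUnit_det _).2 (det_mat g ▸ isUnit_one)
  obtain ⟨N', hN'⟩ := hdet.exists_right_inv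
  refine ⟨sub N' (X j), ?_, fun h0 => ?_, ?_⟩
  · rw [sub_X]
    exact IsHomogeneous.sum _ _ _ fun i _ => isHomogeneous_C_mul_X _ _
  · have h2 := congrArg (sub (mat g)) h0
    rw [sub_sub, map_zero, mul_eq_one_comm.1 hN', sub_one] at h2
    exact X_ne_zero j h2
  · have h2 := _root_.map_dvd (sub N') hdvd
    rwa [map_pow, formPoly_move_self, sub_sub, hN', sub_one] at h2

variable [IsAlgClosed k] [CharZero k]

theorem binary_stable_iff (a : FormIdx 2 d → k) :
    GLin.IsStableVec k (SLn 2 k) a ↔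
      ∀ ℓ : MvPolynomial (Fin 2) k, ℓ.IsHomogeneous 1 → ℓ ≠ 0 → ∀ m : ℕ, ℓ ^ m ∣ formPoly a → 2 * m < d := by
  have hd : (d.factorial : k) ≠ 0 := Nat.cast_ne_zero.2 d.factorial_ne_zero
  rw [isStableVec_iff hd]
  constructor
  · intro h ℓ hℓ hℓ0 m hdvd
    by_contra hm
    obtain ⟨g, hg⟩ := exists_coords hd a hℓ hℓ0 hdvd
    obtain ⟨l, hl, hne⟩ := h g ![-1, 1] (by simp) (fun e => by simpa using congrFun e 1)
    refine hne (hg l ?_)
    rw [wt_two _ (by simp)] at hl
    simp only [cons_val_one, cons_val_zero, one_mul] at hl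
    have := l.2
    rw [Finsupp.degree_eq_sum, Fin.sum_univ_two] at this
    omega
  · intro h g r hr hr0
    by_contra hno
    push Not at hno
    have hr1 : r 1 ≠ 0 := fun h1 => hr0 (funext fun i => by
      rw [Fin.sum_univ_two] at hr
      fin_cases i <;> simp <;> omega)
    rcases lt_or_gt_of_ne hr1 with hneg | hpos
    · obtain ⟨ℓ, h1, h2, h3⟩ := exists_factor g a 0 ((d + 1) / 2) fun l hl => hno l (by
        rw [wt_two _ hr]
        have := l.2
        rw [Finsupp.degree_eq_sum, Fin.sum_univ_two] at this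
        exact mul_neg_of_neg_of_pos hneg (by omega))
      have := h ℓ h1 h2 _ h3
      omega
    · obtain ⟨ℓ, h1, h2, h3⟩ := exists_factor g a 1 ((d + 1) / 2) fun l hl => hno l (by
        rw [wt_two _ hr]
        have := l.2
        rw [Finsupp.degree_eq_sum, Fin.sum_univ_two] at this
        exact mul_neg_of_pos_of_neg hpos (by omega))
      have := h ℓ h1 h2 _ h3
      omega

theorem binary_semistable_iff (a : FormIdx 2 d → k) (ha : a ≠ 0) :
    GLin.IsSemistableVec k (SLn 2 k) a ↔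
      ∀ ℓ : MvPolynomial (Fin 2) k, ℓ.IsHomogeneous 1 → ℓ ≠ 0 → ∀ m : ℕ, ℓ ^ m ∣ formPoly a → 2 * m ≤ d := by
  have hd : (d.factorial : k) ≠ 0 := Nat.cast_ne_zero.2 d.factorial_ne_zero
  rw [GLin.IsSemistableVec, isNullform_iff a ha]
  constructor
  · intro h ℓ hℓ hℓ0 m hdvd
    by_contra hm
    obtain ⟨g, hg⟩ := exists_coords hd a hℓ hℓ0 hdvd
    refine h ⟨g, ![-1, 1], by simp, fun e => by simpa using congrFun e 1, fun l hl => hg l ?_⟩
    rw [wt_two _ (by simp)] at hl
    simp only [cons_val_one, cons_val_zero, one_mul] at hl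
    have := l.2
    rw [Finsupp.degree_eq_sum, Fin.sum_univ_two] at this
    omega
  · rintro h ⟨g, r, hr, hr0, hno⟩
    have hr1 : r 1 ≠ 0 := fun h1 => hr0 (funext fun i => by
      rw [Fin.sum_univ_two] at hr
      fin_cases i <;> simp <;> omega)
    rcases lt_or_gt_of_ne hr1 with hneg | hpos
    · obtain ⟨ℓ, h1, h2, h3⟩ := exists_factor g a 0 (d / 2 + 1) fun l hl => hno l (by
        rw [wt_two _ hr]
        have := l.2
        rw [Finsupp.degree_eq_sum, Fin.sum_univ_two] at this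
        exact mul_nonpos_of_nonpos_of_nonneg hneg.le (by omega))
      have := h ℓ h1 h2 _ h3
      omega
    · obtain ⟨ℓ, h1, h2, h3⟩ := exists_factor g a 1 (d / 2 + 1) fun l hl => hno l (by
        rw [wt_two _ hr]
        have := l.2
        rw [Finsupp.degree_eq_sum, Fin.sum_univ_two] at this
        exact mul_nonpos_of_nonneg_of_nonpos hpos.le (by omega))
      have := h ℓ h1 h2 _ h3
      omega

end Groth.Agent.GLForms
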