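import Mathlib

/-!
# Diagonalisation over a valuation ring

Every invertible matrix over a field `K` is `U · diag(e) · W` with `U`, `W` invertible over the valuation ring.
-/

set_option autoImplicit false

universe u

namespace Groth.Agent.GLForms

open Matrix

variable {K : Type u} [Field K]

lemma isUnit_fromBlocks_lower {R : Type u} [CommRing R] {n : ℕ} (c : Fin n → R) {U : Matrix (Fin n) (Fin n) R}
    (hU : IsUnit U) : IsUnit (fromBlocks (1 : Matrix Unit Unit R) 0 (Matrix.of fun i _ => c i) U) := by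
  rw [isUnit_iff_isUnit_det, det_fromBlocks_zero₁₂, det_one, one_mul]
  exact (isUnit_iff_isUnit_det U).1 hU

lemma isUnit_fromBlocks_upper {R : Type u} [CommRing R] {n : ℕ} (b : Fin n → R) {W : Matrix (Fin n) (Fin n) R}
    (hW : IsUnit W) : IsUnit (fromBlocks (1 : Matrix Unit Unit R) (Matrix.of fun _ j => b j) 0 W) := by
  rw [isUnit_iff_isUnit_det, det_fromBlocks_zero₂₁, det_one, one_mul]
  exact (isUnit_iff_isUnit_det W).1 hW

theorem exists_smith (V : ValuationSubring K) :
    ∀ (n : ℕ) (M : Matrix (Fin n) (Fin n) K), M.det ≠ 0 → ∃ U W : Matrix (Fin n) (Fin n) V,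
      IsUnit U ∧ IsUnit W ∧ ∃ e : Fin n → K, M = U.map V.subtype * diagonal e * W.map V.subtype
  | 0, M, _ => ⟨1, 1, isUnit_one, isUnit_one, Fin.elim0, Subsingleton.elim _ _⟩
  | n + 1, M, hM => by
    classical
    obtain ⟨⟨i0, j0⟩, -, hmax⟩ := Finset.exists_max_image Finset.univ
      (fun p : Fin (n + 1) × Fin (n + 1) => V.valuation (M p.1 p.2)) Finset.univ_nonempty
    set a := M i0 j0
    have ha : a ≠ 0 := by
      intro h0
      refine hM (det_eq_zero_of_row_eq_zero i0 fun j => ?_)
      have := hmax (i0, j) (Finset.mem_univ _)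
      simp only [show a = 0 from h0, map_zero, le_zero_iff, map_eq_zero] at this
      exact this
    have hdiv : ∀ i j, M i j / a ∈ V := fun i j => by
      rw [← V.valuation_le_one_iff, map_div₀]
      exact (div_le_one₀ (zero_lt_iff.2 (by simpa using ha))).2 (hmax (i, j) (Finset.mem_univ _))
    let E : Fin (n + 1) → Unit ⊕ Fin n ≃ Fin (n + 1) := fun i =>
      ((Equiv.sumComm Unit (Fin n)).trans (Equiv.optionEquivSumPUnit.{0, 0} (Fin n)).symm).trans (finSuccEquiv' i).symm
    have hE : ∀ i, E i (Sum.inl ()) = i := fun i => by simp [E]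
    let b : Fin n → V := fun j => ⟨_, hdiv i0 (E j0 (Sum.inr j))⟩
    let c : Fin n → V := fun i => ⟨_, hdiv (E i0 (Sum.inr i)) j0⟩
    let cK : Matrix (Fin n) Unit K := Matrix.of fun i _ => (c i : K)
    let bK : Matrix Unit (Fin n) K := Matrix.of fun _ j => (b j : K)
    let aK : Matrix Unit Unit K := diagonal fun _ => a
    let D' : Matrix (Fin n) (Fin n) K := (M.submatrix (E i0) (E j0)).toBlocks₂₂ - cK * aK * bK
    have hsplit : M.submatrix (E i0) (E j0) =
        fromBlocks 1 0 cK 1 * fromBlocks aK 0 0 D' * fromBlocks 1 bK 0 1 := by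
      simp only [fromBlocks_multiply, Matrix.one_mul, Matrix.mul_one, Matrix.zero_mul, Matrix.mul_zero, add_zero, zero_add]
      ext (⟨⟩ | i) (⟨⟩ | j)
      · simp [hE, aK, a]
      · simp [hE, aK, bK, b, diagonal_mul, mul_div_cancel₀ _ ha]
      · simp [hE, aK, cK, c, mul_diagonal, div_mul_cancel₀ _ ha]
      · simp [D', toBlocks₂₂]
    have hdet : D'.det ≠ 0 := by
      intro h0
      have hu : IsUnit (M.submatrix (E i0) (E j0)) :=
        (isUnit_submatrix_equiv _ _).2 ((isUnit_iff_isUnit_det M).2 hM.isUnit)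
      rw [isUnit_iff_isUnit_det, hsplit, det_mul, det_mul, det_fromBlocks_zero₁₂, det_fromBlocks_zero₁₂, det_fromBlocks_zero₂₁,
        h0] at hu
      simp at hu
    obtain ⟨U₁, W₁, hU₁, hW₁, e, he⟩ := exists_smith V n D' hdet
    let U₀ := fromBlocks (1 : Matrix Unit Unit V) 0 (Matrix.of fun i _ => c i) U₁
    let W₀ := fromBlocks (1 : Matrix Unit Unit V) (Matrix.of fun _ j => b j) 0 W₁
    have hmain : M.submatrix (E i0) (E j0) =
        U₀.map V.subtype * diagonal (Sum.elim (fun _ => a) e) * W₀.map V.subtype := by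
      rw [hsplit, ← fromBlocks_diagonal, fromBlocks_map, fromBlocks_map,
        show (Matrix.of fun i (_ : Unit) => c i).map V.subtype = cK from rfl,
        show (Matrix.of fun (_ : Unit) j => b j).map V.subtype = bK from rfl,
        Matrix.map_one _ (map_zero _) (map_one _), Matrix.map_zero _ (map_zero _), Matrix.map_zero _ (map_zero _)]
      simp only [fromBlocks_multiply, Matrix.one_mul, Matrix.mul_one, Matrix.zero_mul, Matrix.mul_zero, add_zero, zero_add]
      rw [he]
    let C : Fin (n + 1) ≃ Unit ⊕ Fin n := (E 0).symm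
    refine ⟨U₀.submatrix (E i0).symm C, W₀.submatrix C (E j0).symm,
      (isUnit_submatrix_equiv _ _).2 (isUnit_fromBlocks_lower c hU₁),
      (isUnit_submatrix_equiv _ _).2 (isUnit_fromBlocks_upper b hW₁), Sum.elim (fun _ => a) e ∘ C, ?_⟩
    rw [← submatrix_diagonal_equiv, ← submatrix_map, ← submatrix_map, submatrix_mul_equiv, submatrix_mul_equiv, ← hmain,
      submatrix_submatrix]
    simp

end Groth.Agent.GLForms
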