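import Groth.Agent.GLForms.Torus
import Groth.Agent.GLForms.Smith
import Groth.Agent.S11804

/-!
# The numerical criterion for forms under the special linear group

A form is not stable exactly when in some coordinates it has no monomial of negative weight for some nonzero
weight vector of sum zero; it is a nullform exactly when it can have only monomials of positive weight.
The direction from instability is by a valuation on the function field of the orbit map.
-/

set_option autoImplicit false
set_option linter.unusedSectionVars false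
set_option linter.style.haveILetI false

universe u v
open TensorProduct CoordGrp WithConv
noncomputable section

namespace Groth.Agent.GLForms

variable {k : Type u} [Field k] [IsAlgClosed k] {N d : ℕ}

lemma move_comp {B : Type v} {B' : Type v} [CommRing B] [CommRing B'] [Algebra k B] [Algebra k B'] (f : B →ₐ[k] B')
    (φ : SLn N k →ₐ[k] B) (a : FormIdx N d → k) (m : FormIdx N d) : move (f.comp φ) a m = f (move φ a m) := by
  simp [move, map_sum]

/-- A point over a field extension with prescribed coordinates gives a rational one. -/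
lemma exists_point_of_field_point {F : Type u} [Field F] [Algebra k F] (S : Set (SLn N k)) (g₀ : SLn N k →ₐ[k] F)
    (h : ∀ x ∈ S, g₀ x = 0) : ∃ g : SLn N k →ₐ[k] k, ∀ x ∈ S, g x = 0 := by
  have hne : Ideal.span S ≠ ⊤ := fun e => by
    have : Ideal.span S ≤ RingHom.ker g₀ := Ideal.span_le.2 fun x hx => RingHom.mem_ker.2 (h x hx)
    rw [e, top_le_iff] at this
    exact RingHom.ker_ne_top g₀ this
  obtain ⟨P, hP, hle⟩ := Ideal.exists_le_maximal _ hne
  obtain ⟨g, hg⟩ := GLinFree.exists_point_of_maximal (k := k) P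
  exact ⟨g, fun x hx => RingHom.mem_ker.1 (hg ▸ hle (Ideal.subset_span hx))⟩

lemma exists_point_move {F : Type u} [Field F] [Algebra k F] (g₀ : SLn N k →ₐ[k] F) (a b : FormIdx N d → k)
    (P : FormIdx N d → Prop) (h : ∀ m, P m → move g₀ a m = algebraMap k F (b m)) :
    ∃ g : SLn N k →ₐ[k] k, ∀ m, P m → move g a m = b m := by
  let y : FormIdx N d → SLn N k := fun m =>
    GLin.orbitHom k (SLn N k) (pnt a) (MvPolynomial.X m) - algebraMap k _ (b m)
  obtain ⟨g, hg⟩ := exists_point_of_field_point (y '' {m | P m}) g₀ (by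
    rintro _ ⟨m, hm, rfl⟩
    rw [map_sub, apply_orbitHom_X, AlgHom.commutes, h m hm, sub_self])
  refine ⟨g, fun m hm => sub_eq_zero.1 ?_⟩
  have := hg _ ⟨m, hm, rfl⟩
  rwa [map_sub, apply_orbitHom_X, AlgHom.commutes] at this

section Valuation

variable {K : Type u} [Field K] [Algebra k K] (V : ValuationSubring K)

/-- The scalars inside the valuation ring. -/
@[reducible] def scalarAlg (hV : ∀ c, algebraMap k K c ∈ V) : Algebra k V :=
  ((algebraMap k K).codRestrict V hV).toAlgebra

/-- The heart of the criterion: a point of the group over a field, not integral for a valuation, moving the form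
to an integral one, produces weights. -/
theorem exists_weights (hd : (d.factorial : k) ≠ 0) (hV : ∀ c, algebraMap k K c ∈ V) (φ : SLn N k →ₐ[k] K)
    (a b : FormIdx N d → k) (hb : ∀ m, V.valuation (move φ a m - algebraMap k K (b m)) < 1)
    {i₁ j₁ : Fin N} (hni : mat φ i₁ j₁ ∉ V) :
    ∃ (g : SLn N k →ₐ[k] k) (r : Fin N → ℤ), ∑ i, r i = 0 ∧ r ≠ 0 ∧
      (∀ m : FormIdx N d, wt r m.1 < 0 → move g a m = 0) ∧
      (b = 0 → ∀ m : FormIdx N d, wt r m.1 ≤ 0 → move g a m = 0) := by
  classical
  letI : Algebra k V := scalarAlg V hV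
  let R₀ := IsLocalRing.residue V
  letI : Algebra k (IsLocalRing.ResidueField V) := (R₀.comp (algebraMap k V)).toAlgebra
  have hcomp : (V.subtype).comp (algebraMap k V) = algebraMap k K := RingHom.ext fun c => rfl
  have hmem : ∀ m, move φ a m ∈ V := fun m => by
    have := V.add_mem _ _ ((V.valuation_le_one_iff _).1 (hb m).le) (hV (b m))
    rwa [sub_add_cancel] at this
  let bV : FormIdx N d → V := fun m => ⟨_, hmem m⟩
  have hG : MvPolynomial.map V.subtype (formPoly bV) = formPoly (move φ a) := by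
    simp [formPoly, bV, map_sum, MvPolynomial.map_monomial]
  obtain ⟨U, W, hU, hW, e, hM⟩ := exists_smith V N (mat φ) (by rw [det_mat]; exact one_ne_zero)
  obtain ⟨W', hW'⟩ := hW.exists_right_inv
  let FV := MvPolynomial.map (algebraMap k V) (formPoly a)
  have key : ∀ m : FormIdx N d, ((MvPolynomial.coeff m.1 (sub U FV) : V) : K) * ∏ i, e i ^ m.1 i =
      ((MvPolynomial.coeff m.1 (sub W' (formPoly bV)) : V) : K) := by
    intro m
    have h1 : MvPolynomial.map V.subtype (sub W' (formPoly bV)) =
        sub (Matrix.diagonal e) (MvPolynomial.map V.subtype (sub U FV)) := by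
      rw [map_sub', map_sub', hG, formPoly_move, sub_sub, sub_sub, MvPolynomial.map_map, hcomp]
      congr 2
      rw [hM, Matrix.mul_assoc, ← Matrix.map_mul, hW', Matrix.map_one _ (map_zero _) (map_one _), Matrix.mul_one]
    have := congrArg (MvPolynomial.coeff m.1) h1
    rw [coeff_sub_diagonal, MvPolynomial.coeff_map, MvPolynomial.coeff_map] at this
    exact this.symm
  have hzero : b = 0 → ∀ m : FormIdx N d, R₀ ((sub W' (formPoly bV)).coeff m.1) = 0 := by
    intro hb0 m
    have h2 : MvPolynomial.map R₀ (formPoly bV) = 0 := by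
      simp only [formPoly, map_sum, MvPolynomial.map_monomial, map_mul]
      refine Finset.sum_eq_zero fun l _ => ?_
      rw [show R₀ (bV l) = 0 from (IsLocalRing.residue_eq_zero_iff _).2 ((V.valuation_lt_one_iff _).2 (by
        simpa [hb0, bV] using hb l)), mul_zero, MvPolynomial.monomial_zero]
    rw [← MvPolynomial.coeff_map, map_sub', h2, map_zero, MvPolynomial.coeff_zero]
  -- the values of the diagonal entries
  have hdet : ((U.det : V) : K) * (∏ i, e i) * ((W.det : V) : K) = 1 := by
    have := det_mat φ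
    rw [hM, Matrix.det_mul, Matrix.det_mul, Matrix.det_diagonal] at this
    rwa [show (U.map V.subtype).det = (U.det : K) from (V.subtype.map_det U).symm,
      show (W.map V.subtype).det = (W.det : K) from (V.subtype.map_det W).symm] at this
  have he : ∀ i, e i ≠ 0 := fun i h => by
    rw [Finset.prod_eq_zero (Finset.mem_univ i) h, mul_zero, zero_mul] at hdet
    exact zero_ne_one hdet
  have hv : ∏ i, V.valuation (e i) = 1 := by
    have := congrArg V.valuation hdet
    rwa [map_mul, map_mul, (V.valuation_eq_one_iff _).1 ((Matrix.isUnit_iff_isUnit_det U).1 hU),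
      (V.valuation_eq_one_iff _).1 ((Matrix.isUnit_iff_isUnit_det W).1 hW), one_mul, mul_one, map_one, map_prod] at this
  obtain ⟨i₂, hi₂⟩ : ∃ i, V.valuation (e i) ≠ 1 := by
    by_contra hall
    push Not at hall
    apply hni
    rw [hM, Matrix.mul_apply]
    simp only [Matrix.mul_diagonal, Matrix.map_apply]
    exact sum_mem fun l _ => mul_mem (mul_mem (U i₁ l).2 ((V.valuation_le_one_iff _).1 (hall l).le)) (W l j₁).2
  let u : Fin N → V.ValueGroupˣ := fun i => Units.mk0 (V.valuation (e i)) ((Valuation.ne_zero_iff _).2 (he i))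
  let χ : Fin N → Additive V.ValueGroupˣ := fun i => - Additive.ofMul (u i)
  have hχ : ∀ c : Fin N → ℕ, ∑ i, (c i : ℤ) • χ i = - Additive.ofMul (∏ i, u i ^ c i) := fun c => by
    simp [χ, ofMul_prod, Finset.sum_neg_distrib]
  let Φ : Finset (Fin N → ℤ) := ((Finset.univ : Finset (FormIdx N d)).image fun m i => (m.1 i : ℤ)) ∪
    {fun _ => 1, Pi.single i₂ 1}
  obtain ⟨r, hr⟩ := Groth.Agent.S11804.result (Additive V.ValueGroupˣ) N χ Φ
  have hr0 : ∑ i, r i = 0 := by
    have h := (hr (fun _ => 1) (Finset.mem_union_right _ (Finset.mem_insert_self _ _))).2.1 (by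
      have h1 : ∏ i, u i ^ (1 : ℕ) = 1 := Units.ext (by simpa [u, Units.coe_prod] using hv)
      have := hχ fun _ => 1
      rw [h1, ofMul_one, neg_zero] at this
      simpa using this)
    simpa using h
  have hrne : r ≠ 0 := by
    intro h0
    have h := (hr (Pi.single i₂ 1) (Finset.mem_union_right _ (Finset.mem_insert_of_mem (Finset.mem_singleton_self _)))).2.2
      (by simp [h0])
    rw [Finset.sum_eq_single i₂ (fun j _ hj => by simp [hj]) (by simp), Pi.single_eq_same, one_zsmul] at h
    rw [show χ i₂ = - Additive.ofMul (u i₂) from rfl, neg_eq_zero, ofMul_eq_zero] at h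
    exact hi₂ (congrArg Units.val h)
  have hsign : ∀ m : FormIdx N d, R₀ ((sub U FV).coeff m.1) ≠ 0 → 0 ≤ wt r m.1 ∧ (b = 0 → 0 < wt r m.1) := by
    intro m hm
    have h1 : V.valuation ((MvPolynomial.coeff m.1 (sub U FV) : V) : K) = 1 :=
      (V.valuation_eq_one_iff _).1 (IsLocalRing.notMem_maximalIdeal.1 fun h => hm ((IsLocalRing.residue_eq_zero_iff _).2 h))
    have h2 : V.valuation ((MvPolynomial.coeff m.1 (sub W' (formPoly bV)) : V) : K) = ((∏ i, u i ^ m.1 i : V.ValueGroupˣ) : V.ValueGroup) := by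
      rw [← key, map_mul, h1, one_mul, map_prod, Units.coe_prod]
      simp [u]
    have hΦ := hr (fun i => (m.1 i : ℤ)) (Finset.mem_union_left _ (Finset.mem_image_of_mem _ (Finset.mem_univ m)))
    rw [hχ fun i => m.1 i] at hΦ
    have ewt : ∑ i, (m.1 i : ℤ) * r i = wt r m.1 := Finset.sum_congr rfl fun i _ => mul_comm _ _
    rw [ewt] at hΦ
    refine ⟨?_, fun hb0 => ?_⟩
    · have h3 : ((∏ i, u i ^ m.1 i : V.ValueGroupˣ) : V.ValueGroup) ≤ 1 := h2 ▸ V.valuation_le_one _
      have h4 : (∏ i, u i ^ m.1 i : V.ValueGroupˣ) ≤ 1 := Units.val_le_val.1 (h3.trans_eq Units.val_one.symm)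
      rcases eq_or_lt_of_le h4 with h | h
      · exact (hΦ.2.1 (by rw [h, ofMul_one, neg_zero])).ge
      · exact (hΦ.1.1 (neg_pos.2 h)).le
    · refine hΦ.1.1 (neg_pos.2 ?_)
      have h3 : ((∏ i, u i ^ m.1 i : V.ValueGroupˣ) : V.ValueGroup) < 1 :=
        h2 ▸ (V.valuation_lt_one_iff _).1 ((IsLocalRing.residue_eq_zero_iff _).1 (hzero hb0 m))
      exact (Units.val_lt_val.1 (h3.trans_eq Units.val_one.symm) : (∏ i, u i ^ m.1 i : V.ValueGroupˣ) < 1)
  -- the residual matrix, corrected to determinant one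
  let Ū := U.map R₀
  have hŪ : Ū.det ≠ 0 := by
    rw [show Ū.det = R₀ U.det from (R₀.map_det U).symm]
    exact (((Matrix.isUnit_iff_isUnit_det U).1 hU).map R₀).ne_zero
  let s : Fin N → IsLocalRing.ResidueField V := Function.update 1 i₁ Ū.det⁻¹
  have hs : (Ū * Matrix.diagonal s).det = 1 := by
    rw [Matrix.det_mul, Matrix.det_diagonal, Finset.prod_update_of_mem (Finset.mem_univ _)]
    simp [hŪ]
  let g₀ := SLn.pt N k (Ū * Matrix.diagonal s) hs
  have hg₀ : ∀ m : FormIdx N d, R₀ ((sub U FV).coeff m.1) = 0 → move g₀ a m = 0 := by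
    intro m hm
    have h := coeff_sub_formPoly g₀ a m
    rw [mat_pt, ← sub_sub, coeff_sub_diagonal] at h
    have hFV : sub Ū (MvPolynomial.map (algebraMap k (IsLocalRing.ResidueField V)) (formPoly a)) =
        MvPolynomial.map R₀ (sub U FV) := by
      rw [map_sub', MvPolynomial.map_map]; rfl
    rw [hFV, MvPolynomial.coeff_map, hm, zero_mul] at h
    exact (mul_eq_zero.1 h.symm).resolve_left (isUnit_multinomial' (isUnit_iff_ne_zero.2 hd) m).ne_zero
  obtain ⟨g, hg⟩ := exists_point_move g₀ a 0 (fun m => wt r m.1 < 0 ∨ (b = 0 ∧ wt r m.1 ≤ 0)) fun m hm => by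
    rw [Pi.zero_apply, map_zero]
    refine hg₀ m (not_not.1 fun hne => ?_)
    obtain ⟨h1, h2⟩ := hsign m hne
    rcases hm with h | ⟨h0, h⟩
    · omega
    · have := h2 h0; omega
  exact ⟨g, r, hr0, hrne, fun m hm => hg m (Or.inl hm), fun h0 m hm => hg m (Or.inr ⟨h0, hm⟩)⟩

/-- An integral point has a residue, so an integral point moving `a` to `b` gives a rational one. -/
theorem exists_move_of_integral (hV : ∀ c, algebraMap k K c ∈ V) (φ : SLn N k →ₐ[k] K)
    (a b : FormIdx N d → k) (hb : ∀ m, V.valuation (move φ a m - algebraMap k K (b m)) < 1)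
    (hint : ∀ i j, mat φ i j ∈ V) : ∃ g : SLn N k →ₐ[k] k, b = move g a := by
  letI : Algebra k V := scalarAlg V hV
  let R₀ := IsLocalRing.residue V
  letI : Algebra k (IsLocalRing.ResidueField V) := (R₀.comp (algebraMap k V)).toAlgebra
  let ι : V →ₐ[k] K := ⟨V.subtype, fun c => rfl⟩
  let M : Matrix (Fin N) (Fin N) V := fun i j => ⟨_, hint i j⟩
  have hMd : M.det = 1 := by
    refine Subtype.ext ?_
    show V.subtype M.det = 1
    rw [V.subtype.map_det]
    exact det_mat φ
  let φV := SLn.pt N k M hMd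
  have hφ : ι.comp φV = φ := point_ext (by ext i j; exact congrArg ι (SLn.pt_X M hMd i j))
  let res : V →ₐ[k] IsLocalRing.ResidueField V := ⟨R₀, fun c => rfl⟩
  obtain ⟨g, hg⟩ := exists_point_move (res.comp φV) a b (fun _ => True) fun m _ => by
    rw [move_comp]
    have h1 : V.valuation ((move φV a m - algebraMap k V (b m) : V) : K) < 1 := by
      have : move φ a m = ι (move φV a m) := by rw [← move_comp, hφ]
      have hb' := hb m
      rwa [this] at hb'
    have h2 := (IsLocalRing.residue_eq_zero_iff _).2 ((V.valuation_lt_one_iff _).2 h1)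
    rw [map_sub, sub_eq_zero] at h2
    exact h2
  exact ⟨g, funext fun m => (hg m trivial).symm⟩

end Valuation

/-- A boundary point of an orbit gives weights. -/
theorem exists_weights_of_boundary (hd : (d.factorial : k) ≠ 0) {a b : FormIdx N d → k}
    (h : GLin.InOrbitClosure k (SLn N k) (pnt a) (pnt b)) (hne : ∀ g : SLn N k →ₐ[k] k, b ≠ move g a) :
    ∃ (g : SLn N k →ₐ[k] k) (r : Fin N → ℤ), ∑ i, r i = 0 ∧ r ≠ 0 ∧
      (∀ m : FormIdx N d, wt r m.1 < 0 → move g a m = 0) ∧
      (b = 0 → ∀ m : FormIdx N d, wt r m.1 ≤ 0 → move g a m = 0) := by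
  classical
  haveI : (RingHom.ker (pnt b)).IsPrime := RingHom.ker_isPrime _
  obtain ⟨P, hP, hPle⟩ := Ideal.exists_minimalPrimes_le (J := RingHom.ker (pnt b)) h
  have hPp : P.IsPrime := hP.1.1
  obtain ⟨q, hq, -, hqP⟩ := Ideal.exists_comap_eq_of_mem_minimalPrimes
    (GLin.orbitHom k (SLn N k) (pnt a)).toRingHom (I := ⊥) P (by rwa [← RingHom.ker_eq_comap_bot])
  let K := FractionRing (SLn N k ⧸ q)
  let φ : SLn N k →ₐ[k] K := (IsScalarTower.toAlgHom k (SLn N k ⧸ q) K).comp (Ideal.Quotient.mkₐ k q)
  have hker : RingHom.ker φ = q := by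
    ext x
    show algebraMap (SLn N k ⧸ q) K (Ideal.Quotient.mk q x) = 0 ↔ _
    rw [map_eq_zero_iff _ (IsFractionRing.injective _ K), Ideal.Quotient.eq_zero_iff_mem]
  let ψ : FormRing k N d →+* K := (φ.comp (GLin.orbitHom k (SLn N k) (pnt a))).toRingHom
  have hψ : RingHom.ker ψ ≤ RingHom.ker (pnt b) := fun f hf => hPle (by
    rw [← hqP]
    exact (hker ▸ hf : GLin.orbitHom k (SLn N k) (pnt a) f ∈ q))
  let J : Ideal ψ.range := (RingHom.ker (pnt b)).map ψ.rangeRestrict
  have hJ : J ≠ ⊤ := fun e => by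
    have := congrArg (Ideal.comap ψ.rangeRestrict) e
    rw [Ideal.comap_map_of_surjective _ ψ.rangeRestrict_surjective, Ideal.comap_top, sup_eq_left.2 (by
      intro f hf
      exact hψ (congrArg Subtype.val (hf : ψ.rangeRestrict f = 0)))] at this
    exact RingHom.ker_ne_top _ this
  obtain ⟨V, hVle, hVJ⟩ := Ideal.image_subset_nonunits_valuationSubring J hJ
  have hV : ∀ c, algebraMap k K c ∈ V := fun c => hVle ⟨MvPolynomial.C c, by
    show φ (GLin.orbitHom k _ _ (algebraMap k (FormRing k N d) c)) = _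
    rw [AlgHom.commutes, AlgHom.commutes]⟩
  have hb : ∀ m, V.valuation (move φ a m - algebraMap k K (b m)) < 1 := fun m => by
    let f : FormRing k N d := MvPolynomial.X m - algebraMap k _ (b m)
    have hf : f ∈ RingHom.ker (pnt b) := by simp [f, RingHom.mem_ker]
    have := hVJ ⟨_, Ideal.mem_map_of_mem _ hf, rfl⟩
    rw [SetLike.mem_coe, V.mem_nonunits_iff] at this
    convert! this using 2
    show _ = φ (GLin.orbitHom k _ _ f)
    rw [map_sub, map_sub, AlgHom.commutes, AlgHom.commutes, apply_orbitHom_X]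
  by_cases hint : ∀ i j, mat φ i j ∈ V
  · obtain ⟨g, hg⟩ := exists_move_of_integral V hV φ a b hb hint
    exact absurd hg (hne g)
  · push Not at hint
    obtain ⟨i, j, hij⟩ := hint
    exact exists_weights V hd hV φ a b hb hij

/-- An infinite stabiliser gives weights. -/
theorem exists_weights_of_infinite_stab (hd : (d.factorial : k) ≠ 0) {a : FormIdx N d → k}
    (h : (GLRed.stabSet k (SLn N k) (pnt a)).Infinite) :
    ∃ (g : SLn N k →ₐ[k] k) (r : Fin N → ℤ), ∑ i, r i = 0 ∧ r ≠ 0 ∧
      ∀ m : FormIdx N d, wt r m.1 < 0 → move g a m = 0 := by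
  classical
  haveI : IsNoetherianRing (SLn N k) := Algebra.FiniteType.isNoetherianRing k _
  set I := GLin.stabIdeal k (SLn N k) (pnt a)
  obtain ⟨q, hq, hqinf⟩ : ∃ q ∈ I.minimalPrimes, {g : SLn N k →ₐ[k] k | q ≤ RingHom.ker g}.Infinite := by
    by_contra hfin
    push Not at hfin
    refine h (((Ideal.finite_minimalPrimes_of_isNoetherianRing _ I).biUnion fun q hq => hfin q hq).subset ?_)
    intro g hg
    haveI : (RingHom.ker g).IsPrime := RingHom.ker_isPrime _
    obtain ⟨q, hq, hqg⟩ := Ideal.exists_minimalPrimes_le (J := RingHom.ker g) (GLRed.stabIdeal_le_ker_iff.2 hg)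
    exact Set.mem_biUnion hq hqg
  haveI := hq.1.1
  let K := FractionRing (SLn N k ⧸ q)
  let φ : SLn N k →ₐ[k] K := (IsScalarTower.toAlgHom k (SLn N k ⧸ q) K).comp (Ideal.Quotient.mkₐ k q)
  have hker : RingHom.ker φ = q := by
    ext x
    show algebraMap (SLn N k ⧸ q) K (Ideal.Quotient.mk q x) = 0 ↔ _
    rw [map_eq_zero_iff _ (IsFractionRing.injective _ K), Ideal.Quotient.eq_zero_iff_mem]
  obtain ⟨i, j, hij⟩ : ∃ i j, mat φ i j ∉ (algebraMap k K).range := by
    by_contra hall
    push Not at hall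
    choose c hc using hall
    refine hqinf (Set.Subsingleton.finite fun g hg g' hg' => point_ext ?_)
    ext i j
    have hm : SLn.X i j - algebraMap k _ (c i j) ∈ q := by
      rw [← hker, RingHom.mem_ker, map_sub, AlgHom.commutes, hc]
      exact sub_self _
    have e1 := RingHom.mem_ker.1 (hg hm)
    have e2 := RingHom.mem_ker.1 (hg' hm)
    rw [map_sub, AlgHom.commutes, sub_eq_zero] at e1 e2
    exact e1.trans e2.symm
  haveI : IsIntegrallyClosedIn (algebraMap k K).range K := by
    refine Subring.isIntegrallyClosedIn_iff.mpr fun {x} hx => ?_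
    have hint : IsIntegral k x := by
      obtain ⟨p, hp, hpx⟩ := hx
      obtain ⟨p', hp', -, hp'm⟩ := Polynomial.lifts_and_degree_eq_and_monic
        (f := (algebraMap k K).rangeRestrict) (p := p)
        (Polynomial.mem_lifts p |>.2 (Polynomial.map_surjective _ (algebraMap k K).rangeRestrict_surjective p)) hp
      refine ⟨p', hp'm, ?_⟩
      rw [← hp', Polynomial.eval₂_map] at hpx
      exact hpx
    exact RingHom.mem_range.2 (minpoly.mem_range_of_degree_eq_one k x
      (IsAlgClosed.degree_eq_one_of_irreducible _ (minpoly.irreducible hint)))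
  obtain ⟨V, hVle, hxV⟩ := Subring.exists_le_valuationSubring_of_isIntegrallyClosedIn hij
  have hV : ∀ c, algebraMap k K c ∈ V := fun c => hVle ⟨c, rfl⟩
  obtain ⟨g, r, h1, h2, h3, -⟩ := exists_weights V hd hV φ a a (fun m => by
    have hm : GLin.orbitHom k (SLn N k) (pnt a) (MvPolynomial.X m) - algebraMap k _ (a m) ∈ q := hq.1.2 (by
      refine Ideal.subset_span ⟨MvPolynomial.X m - algebraMap k _ (a m), ?_, ?_⟩
      · simp
      · rw [map_sub, AlgHom.commutes])
    rw [← hker, RingHom.mem_ker, map_sub, AlgHom.commutes, apply_orbitHom_X] at hm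
    rw [hm, map_zero]
    exact zero_lt_one) hxV
  exact ⟨g, r, h1, h2, h3⟩

/-- **The numerical criterion of stability for forms.** -/
theorem isStableVec_iff (hd : (d.factorial : k) ≠ 0) (a : FormIdx N d → k) :
    GLin.IsStableVec k (SLn N k) a ↔
      ∀ (g : SLn N k →ₐ[k] k) (r : Fin N → ℤ), ∑ i, r i = 0 → r ≠ 0 →
        ∃ m : FormIdx N d, wt r m.1 < 0 ∧ move g a m ≠ 0 := by
  constructor
  · intro hst g r hr hr0
    by_contra hno
    exact not_isStableVec hd r hr hr0 g a (fun m hm => by_contra fun h => hno ⟨m, hm, h⟩) hst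
  · intro h
    refine (GLRed.isStablePt_iff_points (pnt a)).2 ⟨fun z hz => ?_, ?_⟩
    · obtain ⟨b, rfl⟩ := exists_pnt z
      by_contra hno
      push Not at hno
      obtain ⟨g, r, h1, h2, h3, -⟩ := exists_weights_of_boundary hd hz fun g e => hno g (by rw [actPt_pnt, ← e])
      obtain ⟨m, hm, hm'⟩ := h g r h1 h2
      exact hm' (h3 m hm)
    · by_contra hinf
      obtain ⟨g, r, h1, h2, h3⟩ := exists_weights_of_infinite_stab hd hinf
      obtain ⟨m, hm, hm'⟩ := h g r h1 h2
      exact hm' (h3 m hm)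

end Groth.Agent.GLForms
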