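import Groth.Agent.GLForms.Subst
import Groth.Agent.GLRed.Stable

/-!
# Forms as points of an action of the special linear group
-/

set_option autoImplicit false
set_option linter.unusedSectionVars false

universe u v
open TensorProduct CoordGrp WithConv
noncomputable section

namespace Groth.Agent.GLForms

section Ring
variable {k : Type u} [CommRing k] {N d : ℕ}

instance finiteType_SLn : Algebra.FiniteType k (SLn N k) :=
  Algebra.FiniteType.of_surjective (R := k) (A := MvPolynomial (GLPoly.Idx N) k)
    ((SLn.mk N k).comp (GLn.mk N k : MvPolynomial (GLPoly.Idx N) k →ₐ[k] GLn N k))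
    ((Ideal.Quotient.mk_surjective (I := GLn.slIdeal N k)).comp (Ideal.Quotient.mk_surjective (I := GLb.relIdeal N k)))

lemma mk_Dinv_eq_one : SLn.mk N k GLn.Dinv = 1 := by
  have := congrArg (SLn.mk N k) (GLn.det_mul_Dinv (n := N) (k := k))
  rwa [map_mul, SLn.det_eq_one, one_mul, map_one] at this

variable {B : Type v} [CommRing B] [Algebra k B]

lemma point_ext {φ φ' : SLn N k →ₐ[k] B} (h : mat φ = mat φ') : φ = φ' :=
  SLn.algHom_ext (fun i j => congrFun (congrFun h i) j) (by rw [mk_Dinv_eq_one, map_one, map_one])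

@[simp] lemma mat_pt (M : Matrix (Fin N) (Fin N) B) (h : M.det = 1) : mat (SLn.pt N k M h) = M := by
  ext i j; exact SLn.pt_X M h i j

lemma det_mat (φ : SLn N k →ₐ[k] B) : (mat φ).det = 1 := by
  have h := congrArg φ (SLn.det_eq_one (n := N) (k := k))
  rw [GLn.det_eq, AlgHom.map_det, AlgHom.map_det, map_one] at h
  exact h

lemma move_smul_left (φ : SLn N k →ₐ[k] B) (a : FormIdx N d → k) (c : k) :
    move φ (c • a) = c • move φ a := by
  ext m; simp [move, Finset.smul_sum, smul_smul]

end Ring

variable {k : Type u} [Field k] {N d : ℕ}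

/-- The action of `SL_N` on forms of degree `d`. -/
scoped instance slComod : HopfRep.Comod k (SLn N k) (FormRing k N d) :=
  GLin.comodAlong ((SLn.mkHom N k).comp (Mat.toGLn N k)) (formsCoact k N d)

scoped instance slCoactAlg : GLin.IsCoactAlg k (SLn N k) (FormRing k N d) :=
  GLin.isCoactAlg_comodAlong ((SLn.mkHom N k).comp (Mat.toGLn N k)) (formsCoact k N d) (formsCoact_isCoactAlg k N d)

lemma coact_X (m : FormIdx N d) : GLin.coactAlgHom k (SLn N k) (FormRing k N d) (MvPolynomial.X m) =
    ∑ l, MvPolynomial.X l ⊗ₜ[k] toSL k N (formCoeff k N d l m) := by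
  rw [GLin.coactAlgHom_apply, GLin.comodAlong_coact, formsCoact_coact, formsCoactAlg_X, map_sum]
  rfl

/-- The point of a form. -/
abbrev pnt (a : FormIdx N d → k) : FormRing k N d →ₐ[k] k := GLin.vecPt k (FormIdx N d) a

lemma orbitHom_X (a : FormIdx N d → k) (m : FormIdx N d) :
    GLin.orbitHom k (SLn N k) (pnt a) (MvPolynomial.X m) = ∑ l, a l • toSL k N (formCoeff k N d l m) := by
  rw [GLin.orbitHom, AlgHom.comp_apply, AlgHom.comp_apply, coact_X, map_sum, map_sum]
  refine Finset.sum_congr rfl fun l _ => ?_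
  simp [MvPolynomial.aeval_X]

lemma apply_orbitHom_X {B : Type v} [CommRing B] [Algebra k B] (φ : SLn N k →ₐ[k] B) (a : FormIdx N d → k)
    (m : FormIdx N d) : φ (GLin.orbitHom k (SLn N k) (pnt a) (MvPolynomial.X m)) = move φ a m := by
  rw [orbitHom_X, map_sum]
  exact Finset.sum_congr rfl fun l _ => map_smul φ _ _

lemma actPt_pnt (g : SLn N k →ₐ[k] k) (a : FormIdx N d → k) :
    GLin.actPt k g (pnt a) = pnt (move g a) :=
  MvPolynomial.algHom_ext fun m => (apply_orbitHom_X g a m).trans (MvPolynomial.aeval_X _ m).symm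

lemma pnt_injective : Function.Injective (pnt (k := k) (N := N) (d := d)) := fun a b h => by
  ext m
  simpa using DFunLike.congr_fun h (MvPolynomial.X m)

lemma exists_pnt (z : FormRing k N d →ₐ[k] k) : ∃ b, z = pnt b :=
  ⟨fun m => z (MvPolynomial.X m), MvPolynomial.algHom_ext fun m => by simp⟩

/-- A point of the group turns the form `F` into `F(g·y)`. -/
lemma formPoly_move_self (g : SLn N k →ₐ[k] k) (a : FormIdx N d → k) :
    formPoly (move g a) = sub (mat g) (formPoly a) := by
  rw [formPoly_move]
  congr 1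
  rw [Algebra.algebraMap_self, MvPolynomial.map_id]

/-- The condition on monomials of `F(g·y)`. -/
lemma coeff_sub_eq_zero_iff (hd : (d.factorial : k) ≠ 0) (g : SLn N k →ₐ[k] k) (a : FormIdx N d → k)
    (m : FormIdx N d) : (sub (mat g) (formPoly a)).coeff m.1 = 0 ↔ move g a m = 0 := by
  rw [← formPoly_move_self, coeff_formPoly, mul_eq_zero, or_iff_right]
  exact (isUnit_multinomial (isUnit_iff_ne_zero.2 hd) m).ne_zero

lemma formPoly_injective (hd : (d.factorial : k) ≠ 0) : Function.Injective (formPoly (k := k) (n := N) (d := d)) :=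
  fun a b h => funext fun m => by
    have := congrArg (MvPolynomial.coeff m.1) h
    rw [coeff_formPoly, coeff_formPoly] at this
    exact mul_left_cancel₀ (isUnit_multinomial (isUnit_iff_ne_zero.2 hd) m).ne_zero this

/-- A point moved by a point of the group is zero only for the zero form. -/
lemma eq_zero_of_move (g : SLn N k →ₐ[k] k) {a : FormIdx N d → k} (h : move g a = 0) : a = 0 := by
  let x := toConv g
  have h1 : GLin.actPt k (x⁻¹).ofConv (GLin.actPt k x.ofConv (pnt a)) = pnt a := by
    rw [GLRed.actPt_actPt, mul_inv_cancel, GLRed.actPt_one]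
  rw [show GLin.actPt k x.ofConv (pnt a) = pnt (move g a) from actPt_pnt g a, h, actPt_pnt] at h1
  have := pnt_injective h1
  rw [← this]
  ext m; simp [move]

end Groth.Agent.GLForms
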