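import Groth.Prelude.Def_GLin6

/-!
# The action of matrices on forms is substitution

`GLForms.formPoly_move`: a point `φ` of `SL_N` with matrix `M` moves the point of the form `F` to the point of `F(M·y)`.
-/

set_option autoImplicit false
set_option linter.unusedSectionVars false

universe u v w
open TensorProduct CoordGrp MvPolynomial
noncomputable section

namespace Groth.Agent.GLForms

variable {k : Type u} [CommRing k] {N d : ℕ} {B : Type v} [CommRing B]

/-- Substitution of `M·y` for the variables `y`. -/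
def sub (M : Matrix (Fin N) (Fin N) B) : MvPolynomial (Fin N) B →ₐ[B] MvPolynomial (Fin N) B :=
  MvPolynomial.aeval fun i => ∑ j, C (M i j) * X j

@[simp] lemma sub_X (M : Matrix (Fin N) (Fin N) B) (i : Fin N) : sub M (X i) = ∑ j, C (M i j) * X j :=
  aeval_X _ _

lemma sub_sub (M M' : Matrix (Fin N) (Fin N) B) (G : MvPolynomial (Fin N) B) :
    sub M' (sub M G) = sub (M * M') G := by
  suffices h : (sub M').comp (sub M) = sub (M * M') from DFunLike.congr_fun h G
  refine MvPolynomial.algHom_ext fun i => ?_
  simp only [AlgHom.comp_apply, sub_X, map_sum, map_mul, MvPolynomial.algHom_C, algebraMap_eq, Matrix.mul_apply,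
    Finset.mul_sum, Finset.sum_mul, map_mul, mul_assoc]
  exact Finset.sum_comm

lemma sub_one (G : MvPolynomial (Fin N) B) : sub 1 G = G := by
  suffices h : sub (1 : Matrix (Fin N) (Fin N) B) = AlgHom.id B _ from DFunLike.congr_fun h G
  refine MvPolynomial.algHom_ext fun i => ?_
  rw [sub_X, Finset.sum_eq_single i]
  · simp
  · intro j _ hj; simp [Matrix.one_apply_ne' hj]
  · simp

lemma map_sub' {B' : Type w} [CommRing B'] (f : B →+* B') (M : Matrix (Fin N) (Fin N) B)
    (G : MvPolynomial (Fin N) B) : MvPolynomial.map f (sub M G) = sub (M.map f) (MvPolynomial.map f G) := by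
  induction G using MvPolynomial.induction_on with
  | C c => simp [sub]
  | add p q hp hq => simp only [map_add, hp, hq]
  | mul_X p i hp => simp [map_mul, hp, sub_X]

lemma sub_diagonal_monomial (e : Fin N → B) (m : Fin N →₀ ℕ) (c : B) :
    sub (Matrix.diagonal e) (monomial m c) = monomial m (c * ∏ i, e i ^ m i) := by
  have hX : ∀ i, ∑ j, C (Matrix.diagonal e i j) * X j = (C (e i) * X i : MvPolynomial (Fin N) B) := fun i => by
    rw [Finset.sum_eq_single i]
    · simp
    · intro j _ hj; simp [Matrix.diagonal_apply_ne' _ hj]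
    · simp
  rw [sub, aeval_monomial, Finsupp.prod_fintype _ _ (fun i => pow_zero _)]
  simp only [hX, algebraMap_eq, mul_pow, Finset.prod_mul_distrib, ← map_pow, ← map_prod]
  conv_rhs => rw [monomial_eq, Finsupp.prod_fintype _ _ (fun i => pow_zero _), map_mul]
  rw [mul_assoc]

lemma coeff_sub_diagonal (e : Fin N → B) (G : MvPolynomial (Fin N) B) (m : Fin N →₀ ℕ) :
    coeff m (sub (Matrix.diagonal e) G) = coeff m G * ∏ i, e i ^ m i := by
  classical
  induction G using MvPolynomial.induction_on' with
  | monomial l c =>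
    rw [sub_diagonal_monomial, coeff_monomial, coeff_monomial]
    split_ifs with h
    · rw [h]
    · rw [zero_mul]
  | add p q hp hq => simp only [map_add, coeff_add, hp, hq, add_mul]

lemma sum_pow_forms {S : Type w} [CommSemiring S] (f : Fin N → S) (d : ℕ) :
    (∑ i, f i) ^ d = ∑ m : FormIdx N d, (m.1.multinomial : S) * ∏ i, f i ^ m.1 i := by
  classical
  rw [Finset.sum_pow_eq_sum_piAntidiag]
  refine Finset.sum_bij' (fun k hk => (⟨Finsupp.equivFunOnFinite.symm k, by
      rw [Finsupp.degree_eq_sum]; simpa using (Finset.mem_piAntidiag.1 hk).1⟩ : FormIdx N d))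
    (fun m _ => ⇑m.1) (fun _ _ => Finset.mem_univ _) (fun m _ => Finset.mem_piAntidiag.2 ⟨by
      rw [← Finsupp.degree_eq_sum]; exact m.2, fun i _ => Finset.mem_univ i⟩)
    (fun k _ => by simp) (fun m _ => Subtype.ext (by ext; simp)) ?_
  intro k hk
  have : (Finsupp.equivFunOnFinite.symm k).multinomial = Nat.multinomial Finset.univ k := by
    rw [Finsupp.multinomial_eq_of_support_subset (Finset.subset_univ _)]
    exact Nat.multinomial_congr fun a _ => by simp
  simp [this]

/-- The expansion of a product of linear forms by the matrix coefficients. -/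
lemma prod_linear [Algebra k B] (φ : Mat N k →ₐ[k] B) (m : FormIdx N d) :
    ∏ i, (∑ j, C (φ (Mat.X j i)) * X j : MvPolynomial (Fin N) B) ^ m.1 i =
      ∑ l : FormIdx N d, monomial l.1 (φ (formCoeff k N d l m)) := by
  let Ψ : MvPolynomial (Fin N) k ⊗[k] Mat N k →ₐ[k] MvPolynomial (Fin N) B :=
    Algebra.TensorProduct.lift (MvPolynomial.aeval fun i => X i)
      ((IsScalarTower.toAlgHom k B (MvPolynomial (Fin N) B)).comp φ) fun _ _ => Commute.all _ _
  have h : Ψ.comp (stdCoactAlg N k) = MvPolynomial.aeval fun i => ∑ j, C (φ (Mat.X j i)) * X j := by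
    refine MvPolynomial.algHom_ext fun i => ?_
    simp [Ψ, stdCoactAlg_X, mul_comm, algebraMap_eq]
  have hl := DFunLike.congr_fun h (monomial m.1 1)
  rw [aeval_monomial, (algebraMap k _).map_one, one_mul, Finsupp.prod_fintype _ _ (fun i => pow_zero _)] at hl
  rw [← hl, AlgHom.comp_apply, stdCoactAlg_monomial_expand, map_sum]
  refine Finset.sum_congr rfl fun l _ => ?_
  simp only [Ψ, Algebra.TensorProduct.lift_tmul, AlgHom.comp_apply, IsScalarTower.coe_toAlgHom', algebraMap_eq]
  rw [aeval_monomial, (algebraMap k _).map_one, one_mul, Finsupp.prod_fintype _ _ (fun i => pow_zero _), monomial_eq,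
    Finsupp.prod_fintype _ _ (fun i => pow_zero _), mul_comm]

/-- The identity defining the action on normalised coefficients. -/
lemma sum_multinomial_formCoeff [Algebra k B] (φ : Mat N k →ₐ[k] B) (l : FormIdx N d) :
    ∑ m : FormIdx N d, monomial m.1 ((m.1.multinomial : B) * φ (formCoeff k N d l m)) =
      (l.1.multinomial : MvPolynomial (Fin N) B) * ∏ j, (∑ i, C (φ (Mat.X j i)) * X i) ^ l.1 j := by
  classical
  let φ' : Mat N k →ₐ[k] MvPolynomial (Fin N) B :=
    (IsScalarTower.toAlgHom k B (MvPolynomial (Fin N) B)).comp φ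
  have hφ' : ∀ z, φ' z = C (φ z) := fun z => rfl
  let L : Fin N → MvPolynomial (Fin N) (MvPolynomial (Fin N) B) := fun i => ∑ j, C (φ' (Mat.X j i)) * X j
  let My : Fin N → MvPolynomial (Fin N) B := fun j => ∑ i, C (φ (Mat.X j i)) * X i
  have e1 : (∑ i, C (X i : MvPolynomial (Fin N) B) * L i) = ∑ j, C (My j) * X j := by
    simp only [L, My, Finset.mul_sum, map_sum, Finset.sum_mul, hφ', map_mul]
    rw [Finset.sum_comm]
    exact Finset.sum_congr rfl fun j _ => Finset.sum_congr rfl fun i _ => by ring
  have h := congrArg (fun P => coeff l.1 (P ^ d)) e1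
  simp only [sum_pow_forms, mul_pow, Finset.prod_mul_distrib, ← map_pow, ← map_prod, coeff_sum] at h
  have hR : ∀ m : FormIdx N d, coeff l.1 ((m.1.multinomial : MvPolynomial (Fin N) (MvPolynomial (Fin N) B)) *
      (C (∏ i, My i ^ m.1 i) * ∏ i, X i ^ m.1 i)) =
        if m = l then (m.1.multinomial : MvPolynomial (Fin N) B) * ∏ i, My i ^ m.1 i else 0 := by
    intro m
    rw [← map_natCast C, ← mul_assoc, ← map_mul, coeff_C_mul]
    have : (∏ i, X i ^ m.1 i : MvPolynomial (Fin N) (MvPolynomial (Fin N) B)) = monomial m.1 1 := by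
      rw [monomial_eq, map_one, one_mul, Finsupp.prod_fintype _ _ (fun i => pow_zero _)]
    rw [this, coeff_monomial]
    by_cases hm : m = l
    · subst hm; simp
    · rw [if_neg hm, if_neg (fun e => hm (Subtype.ext e)), mul_zero]
  have hL : ∀ m : FormIdx N d, coeff l.1 ((m.1.multinomial : MvPolynomial (Fin N) (MvPolynomial (Fin N) B)) *
      (C (∏ i, X i ^ m.1 i) * ∏ i, L i ^ m.1 i)) =
        monomial m.1 ((m.1.multinomial : B) * φ (formCoeff k N d l m)) := by
    intro m
    rw [← map_natCast C, ← mul_assoc, ← map_mul, coeff_C_mul, prod_linear φ' m, coeff_sum, Finset.sum_eq_single l]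
    · rw [coeff_monomial, if_pos rfl, hφ']
      conv_rhs => rw [monomial_eq, Finsupp.prod_fintype _ _ (fun i => pow_zero _), map_mul, map_natCast]
      ring
    · intro j _ hj
      rw [coeff_monomial, if_neg (fun e => hj (Subtype.ext e))]
    · simp
  rw [Finset.sum_congr rfl fun m _ => hR m, Finset.sum_congr rfl fun m _ => hL m, Finset.sum_ite_eq'] at h
  simpa using h

/-! ### Points of the special linear group -/

variable (k N) in
/-- Restriction of functions from matrices to the special linear group. -/
abbrev toSL : Mat N k →ₐc[k] SLn N k := (SLn.mkHom N k).comp (Mat.toGLn N k)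

lemma toSL_X (i j : Fin N) : toSL k N (Mat.X i j) = SLn.X i j := by
  show SLn.mkHom N k (Mat.toGLn N k (Mat.X i j)) = _
  rw [Mat.toGLn_X]; rfl

variable [Algebra k B]

/-- The matrix of a point. -/
def mat (φ : SLn N k →ₐ[k] B) : Matrix (Fin N) (Fin N) B := fun i j => φ (SLn.X i j)

/-- The normalised coefficients of the form moved by a point. -/
def move (φ : SLn N k →ₐ[k] B) (a : FormIdx N d → k) : FormIdx N d → B :=
  fun m => ∑ l, a l • φ (toSL k N (formCoeff k N d l m))

theorem formPoly_move (φ : SLn N k →ₐ[k] B) (a : FormIdx N d → k) :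
    formPoly (move φ a) = sub (mat φ) (MvPolynomial.map (algebraMap k B) (formPoly a)) := by
  let φ0 : Mat N k →ₐ[k] B := φ.comp (toSL k N : Mat N k →ₐ[k] SLn N k)
  simp only [formPoly, move, map_sum, map_monomial, map_mul, map_natCast, Finset.mul_sum]
  rw [Finset.sum_comm]
  refine Finset.sum_congr rfl fun l _ => ?_
  have h := sum_multinomial_formCoeff φ0 l
  have hm : ∀ j i, φ0 (Mat.X j i) = mat φ j i := fun j i => congrArg φ (toSL_X j i)
  simp only [hm] at h
  rw [sub, aeval_monomial, Finsupp.prod_fintype _ _ (fun i => pow_zero _), algebraMap_eq, map_mul, map_natCast,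
    mul_right_comm, ← h, mul_comm, Finset.mul_sum]
  refine Finset.sum_congr rfl fun m _ => ?_
  rw [C_mul_monomial, Algebra.smul_def]
  congr 1
  show _ = algebraMap k B (a l) * ((m.1.multinomial : B) * φ (toSL k N (formCoeff k N d l m)))
  ring

theorem coeff_sub_formPoly (φ : SLn N k →ₐ[k] B) (a : FormIdx N d → k) (m : FormIdx N d) :
    coeff m.1 (sub (mat φ) (MvPolynomial.map (algebraMap k B) (formPoly a))) = (m.1.multinomial : B) * move φ a m := by
  rw [← formPoly_move, coeff_formPoly]

/-- Forms have no monomials of other degrees. -/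
lemma coeff_formPoly_eq_zero (a : FormIdx N d → B) {j : Fin N →₀ ℕ} (hj : j.degree ≠ d) : coeff j (formPoly a) = 0 := by
  classical
  rw [formPoly, coeff_sum]
  exact Finset.sum_eq_zero fun m _ => by rw [coeff_monomial, if_neg fun e => hj (by rw [← e]; exact m.2)]

lemma multinomial_dvd_factorial (m : FormIdx N d) : m.1.multinomial ∣ d.factorial := by
  refine ⟨∏ i, (m.1 i).factorial, ?_⟩
  rw [Finsupp.multinomial_eq_of_support_subset (Finset.subset_univ _), mul_comm, Nat.multinomial_spec,
    ← Finsupp.degree_eq_sum, m.2]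

lemma isUnit_multinomial (hd : IsUnit (d.factorial : k)) (m : FormIdx N d) : IsUnit (m.1.multinomial : k) :=
  isUnit_of_dvd_unit (by exact_mod_cast Nat.cast_dvd_cast (multinomial_dvd_factorial m)) hd

lemma isUnit_multinomial' (hd : IsUnit (d.factorial : k)) (m : FormIdx N d) : IsUnit (m.1.multinomial : B) := by
  rw [← map_natCast (algebraMap k B)]
  exact (isUnit_multinomial hd m).map _

end Groth.Agent.GLForms
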