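import Groth.Agent.GLForms.Point

/-!
# Weights of diagonal one-parameter subgroups obstruct stability and semistability
-/

set_option autoImplicit false
set_option linter.unusedSectionVars false

universe u v
open TensorProduct CoordGrp WithConv
noncomputable section

namespace Groth.Agent.GLForms

variable {k : Type u} [Field k] {N d : ℕ}

/-- The weight of an exponent vector. -/
def wt (r : Fin N → ℤ) (m : Fin N →₀ ℕ) : ℤ := ∑ i, r i * (m i : ℤ)

lemma prod_zpow_pow (r : Fin N → ℤ) {t : k} (ht : t ≠ 0) (m : Fin N →₀ ℕ) :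
    ∏ i, (t ^ r i) ^ m i = t ^ wt r m := by
  simp only [← zpow_natCast, ← zpow_mul, wt]
  classical
  refine Finset.induction_on (Finset.univ : Finset (Fin N)) (by simp) fun a s ha ih => ?_
  rw [Finset.prod_insert ha, Finset.sum_insert ha, ih, zpow_add₀ ht]

lemma det_torus (r : Fin N → ℤ) (hr : ∑ i, r i = 0) (t : kˣ) :
    (Matrix.diagonal fun i => (t : k) ^ r i).det = 1 := by
  classical
  rw [Matrix.det_diagonal]
  refine (Finset.induction_on (Finset.univ : Finset (Fin N)) (motive := fun s => ∏ i ∈ s, (t : k) ^ r i = (t : k) ^ ∑ i ∈ s, r i)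
    (by simp) fun a s ha ih => ?_).trans (by rw [hr, zpow_zero])
  rw [Finset.prod_insert ha, Finset.sum_insert ha, ih, zpow_add₀ t.ne_zero]

/-- The points of a diagonal one-parameter subgroup. -/
def torus (r : Fin N → ℤ) (hr : ∑ i, r i = 0) (t : kˣ) : SLn N k →ₐ[k] k :=
  SLn.pt N k (Matrix.diagonal fun i => (t : k) ^ r i) (det_torus r hr t)

lemma move_torus (hd : (d.factorial : k) ≠ 0) (r : Fin N → ℤ) (hr : ∑ i, r i = 0) (t : kˣ)
    (b : FormIdx N d → k) (m : FormIdx N d) : move (torus r hr t) b m = (t : k) ^ wt r m.1 * b m := by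
  have h := congrArg (MvPolynomial.coeff m.1) (formPoly_move_self (torus r hr t) b)
  rw [torus, mat_pt, coeff_sub_diagonal, coeff_formPoly, coeff_formPoly, prod_zpow_pow _ t.ne_zero, mul_assoc] at h
  rw [torus, mul_left_cancel₀ (isUnit_multinomial (isUnit_iff_ne_zero.2 hd) m).ne_zero h, mul_comm]

/-- The part of weight zero. -/
def weightZero (r : Fin N → ℤ) (b : FormIdx N d → k) : FormIdx N d → k :=
  fun m => if wt r m.1 = 0 then b m else 0

lemma move_torus_weightZero (hd : (d.factorial : k) ≠ 0) (r : Fin N → ℤ) (hr : ∑ i, r i = 0) (t : kˣ)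
    (b : FormIdx N d → k) : move (torus r hr t) (weightZero r b) = weightZero r b := by
  funext m
  rw [move_torus hd, weightZero]
  split_ifs with h
  · rw [h, zpow_zero, one_mul]
  · rw [mul_zero]

variable [IsAlgClosed k]

/-- The limit of a diagonal one-parameter subgroup lies in the orbit closure. -/
theorem inOrbitClosure_weightZero (hd : (d.factorial : k) ≠ 0) (r : Fin N → ℤ) (hr : ∑ i, r i = 0)
    (g : SLn N k →ₐ[k] k) (a : FormIdx N d → k) (h : ∀ m : FormIdx N d, wt r m.1 < 0 → move g a m = 0) :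
    GLin.InOrbitClosure k (SLn N k) (pnt a) (pnt (weightZero r (move g a))) := by
  refine GLRed.inOrbitClosure_trans (y := pnt (move g a)) (by
    rw [← actPt_pnt]; exact GLRed.inOrbitClosure_actPt g _) fun f hf => ?_
  let γ : FormRing k N d →ₐ[k] Polynomial k :=
    MvPolynomial.aeval fun m => Polynomial.C (move g a m) * Polynomial.X ^ (wt r m.1).toNat
  have h1 : ∀ t : kˣ, (γ f).eval (t : k) = 0 := fun t => by
    have e : (Polynomial.aeval (t : k)).comp γ = GLin.actPt k (torus r hr t) (pnt (move g a)) := by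
      rw [actPt_pnt]
      refine MvPolynomial.algHom_ext fun m => ?_
      simp only [γ, AlgHom.comp_apply, MvPolynomial.aeval_X, map_mul, Polynomial.aeval_C, map_pow,
        Polynomial.aeval_X, Algebra.algebraMap_self, RingHom.id_apply, move_torus hd]
      rcases lt_or_ge (wt r m.1) 0 with hm | hm
      · rw [h m hm, zero_mul, mul_zero]
      · rw [mul_comm, ← zpow_natCast, Int.toNat_of_nonneg hm]
    have := DFunLike.congr_fun e f
    rw [AlgHom.comp_apply, Polynomial.coe_aeval_eq_eval] at this
    rw [this]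
    show torus r hr t (GLin.orbitHom k _ _ f) = 0
    rw [RingHom.mem_ker.1 hf, map_zero]
  have h2 : γ f = 0 := by
    refine Polynomial.eq_zero_of_infinite_isRoot _ (Set.Infinite.mono ?_ ((Set.finite_singleton (0 : k)).infinite_compl))
    exact fun t ht => h1 (Units.mk0 t ht)
  have e0 : (Polynomial.aeval (0 : k)).comp γ = pnt (weightZero r (move g a)) := by
    refine MvPolynomial.algHom_ext fun m => ?_
    simp only [γ, AlgHom.comp_apply, MvPolynomial.aeval_X, map_mul, Polynomial.aeval_C, map_pow,
      Polynomial.aeval_X, Algebra.algebraMap_self, RingHom.id_apply, weightZero]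
    rcases lt_trichotomy (wt r m.1) 0 with hm | hm | hm
    · rw [h m hm, zero_mul, if_neg hm.ne]
    · rw [hm, if_pos rfl]; simp
    · rw [if_neg hm.ne', zero_pow (by omega), mul_zero]
  rw [RingHom.mem_ker, ← e0, AlgHom.comp_apply, h2, map_zero]

/-- A form which in some coordinates has no monomial of negative weight for a nonzero weight vector is not stable. -/
theorem not_isStableVec (hd : (d.factorial : k) ≠ 0) (r : Fin N → ℤ) (hr : ∑ i, r i = 0) (hr0 : r ≠ 0)
    (g : SLn N k →ₐ[k] k) (a : FormIdx N d → k) (h : ∀ m : FormIdx N d, wt r m.1 < 0 → move g a m = 0) :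
    ¬ GLin.IsStableVec k (SLn N k) a := by
  intro hst
  obtain ⟨hclosed, hfin⟩ := (GLRed.isStablePt_iff_points (pnt a)).1 hst
  obtain ⟨g', hg'⟩ := hclosed _ (inOrbitClosure_weightZero hd r hr g a h)
  have hf2 : (GLRed.stabSet k (SLn N k) (pnt (weightZero r (move g a)))).Finite :=
    hg' ▸ GLRed.finite_stabSet_actPt hfin g'
  obtain ⟨i, hi⟩ := Function.ne_iff.1 hr0
  have hinf : (Set.range (torus (k := k) r hr)).Infinite := by
    refine Set.Infinite.of_image (fun φ => mat φ i i) (Set.Infinite.mono ?_ ((Set.finite_singleton (0 : k)).infinite_compl))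
    intro c hc
    obtain ⟨s, hs⟩ := IsAlgClosed.exists_pow_nat_eq c (n := (r i).natAbs) (Nat.pos_of_ne_zero (Int.natAbs_ne_zero.2 hi))
    have hs0 : s ≠ 0 := by
      rintro rfl
      rw [zero_pow (Int.natAbs_ne_zero.2 hi)] at hs
      exact hc hs.symm
    rcases Int.natAbs_eq (r i) with e | e
    · refine ⟨_, ⟨Units.mk0 s hs0, rfl⟩, ?_⟩
      show mat (torus r hr _) i i = c
      rw [torus, mat_pt, Matrix.diagonal_apply_eq, e, zpow_natCast]; exact hs
    · refine ⟨_, ⟨Units.mk0 s⁻¹ (inv_ne_zero hs0), rfl⟩, ?_⟩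
      show mat (torus r hr _) i i = c
      rw [torus, mat_pt, Matrix.diagonal_apply_eq, e, zpow_neg, zpow_natCast]
      simpa using hs
  refine hinf (hf2.subset ?_)
  rintro _ ⟨t, rfl⟩
  show GLin.actPt k _ _ = _
  rw [actPt_pnt, move_torus_weightZero hd]

/-- A form which in some coordinates has only monomials of positive weight is a nullform. -/
theorem isNullform (hd : (d.factorial : k) ≠ 0) (r : Fin N → ℤ) (hr : ∑ i, r i = 0)
    (g : SLn N k →ₐ[k] k) (a : FormIdx N d → k) (h : ∀ m : FormIdx N d, wt r m.1 ≤ 0 → move g a m = 0) :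
    GLin.IsNullform k (SLn N k) a := by
  intro F hF e he hhom
  have h0 : weightZero r (move g a) = 0 := by
    funext m
    rw [weightZero, Pi.zero_apply]
    split_ifs with hm
    · exact h m hm.le
    · rfl
  have hcl := inOrbitClosure_weightZero hd r hr g a fun m hm => h m hm.le
  rw [h0] at hcl
  have hev := GLRed.eq_of_inOrbitClosure hcl hF
  have hc : MvPolynomial.constantCoeff F = 0 := hhom.coeff_eq_zero (by simpa using he.ne)
  rw [show (0 : FormIdx N d → k) = fun _ => 0 from rfl, MvPolynomial.aeval_zero', hc, map_zero,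
    MvPolynomial.aeval_eq_eval] at hev
  exact hev.symm

end Groth.Agent.GLForms
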